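import Cfsg.Agent.H5.J3P
import Cfsg.Agent.H5.J3.Chk0
import Cfsg.Agent.H5.J3.Chk1
import Cfsg.Agent.H5.J3.Chk2
import Cfsg.Agent.H5.J3.Chk3
import Cfsg.Agent.H5.J3.Chk4
import Cfsg.Agent.H5.J3.Chk5

set_option autoImplicit false
set_option maxRecDepth 100000
set_option Elab.async false

namespace Cfsg.H6.J3

theorem ptOK : PtOK img 17442 LS EQS := ptOK_of_chk fun p h1 h2 => by
  rw [← ptU_eq]
  exact (range_join (range_join (range_join (range_join (allR_range p0 (by norm_num : 0 + 768 = 768)) (allR_range p1 (by norm_num : 768 + 768 = 1536))) (range_join (allR_range p2 (by norm_num : 1536 + 768 = 2304)) (range_join (allR_range p3 (by norm_num : 2304 + 768 = 3072)) (allR_range p4 (by norm_num : 3072 + 768 = 3840))))) (range_join (range_join (allR_range p5 (by norm_num : 3840 + 768 = 4608)) (range_join (allR_range p6 (by norm_num : 4608 + 768 = 5376)) (allR_range p7 (by norm_num : 5376 + 768 = 6144)))) (range_join (allR_range p8 (by norm_num : 6144 + 768 = 6912)) (range_join (allR_range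 p9 (by norm_num : 6912 + 768 = 7680)) (allR_range p10 (by norm_num : 7680 + 768 = 8448)))))) (range_join (range_join (range_join (allR_range p11 (by norm_num : 8448 + 768 = 9216)) (range_join (allR_range p12 (by norm_num : 9216 + 768 = 9984)) (allR_range p13 (by norm_num : 9984 + 768 = 10752)))) (range_join (allR_range p14 (by norm_num : 10752 + 768 = 11520)) (range_join (allR_range p15 (by norm_num : 11520 + 768 = 12288)) (allR_range p16 (by norm_num : 12288 + 768 = 13056))))) (range_join (range_join (allR_range p17 (by norm_num : 13056 + 768 = 13824)) (range_join (allR_range p18 (by norm_num : 13824 + 768 = 14592)) (allR_range p19 (by norm_num : 14592 + 768 = 15360)))) (range_join (allR_range p20 (by norm_num : 15360 + 768 = 16128)) (range_join (allR_range p21 (by norm_num : 16128 + 768 = 16896)) (allR_range p22 (by norm_num : 16896 + 546 = 17442))))))) p h1 h2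

theorem hrep : repOK 12 3416462311689318815716475136 LS EQS D Cfsg.H5.P3.R = true := by decide +kernel

theorem rep : Good (evR img 17442 12) 3416462311689318815716475136 ∧ Rels (evR img 17442 12) Cfsg.H5.P3.R ∧
    IsAct (MonoidHom.id _) (evR img 17442 12) img 17442 12 := rep_sound ptOK hrep

theorem iv0 {G : Type*} [Group G] {φ : G →* Equiv.Perm ℕ} {ev : ℕ → G} (h : IsAct φ ev img 17442 12) :
    orb φ (gen ev Ws) 1 = Set.Ico 1 6 :=
  ivl_sound h (by decide +kernel) (allR_range q0_0 (by norm_num : 1 + 5 = 6))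

theorem iv1 {G : Type*} [Group G] {φ : G →* Equiv.Perm ℕ} {ev : ℕ → G} (h : IsAct φ ev img 17442 12) :
    orb φ (gen ev Ws) 6 = Set.Ico 6 26 :=
  ivl_sound h (by decide +kernel) (allR_range q1_0 (by norm_num : 6 + 20 = 26))

theorem iv2 {G : Type*} [Group G] {φ : G →* Equiv.Perm ℕ} {ev : ℕ → G} (h : IsAct φ ev img 17442 12) :
    orb φ (gen ev Ws) 26 = Set.Ico 26 106 :=
  ivl_sound h (by decide +kernel) (allR_range q2_0 (by norm_num : 26 + 80 = 106))

theorem iv3 {G : Type*} [Group G] {φ : G →* Equiv.Perm ℕ} {ev : ℕ → G} (h : IsAct φ ev img 17442 12) :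
    orb φ (gen ev Ws) 106 = Set.Ico 106 202 :=
  ivl_sound h (by decide +kernel) (allR_range q3_0 (by norm_num : 106 + 96 = 202))

theorem iv4 {G : Type*} [Group G] {φ : G →* Equiv.Perm ℕ} {ev : ℕ → G} (h : IsAct φ ev img 17442 12) :
    orb φ (gen ev Ws) 202 = Set.Ico 202 322 :=
  ivl_sound h (by decide +kernel) (allR_range q4_0 (by norm_num : 202 + 120 = 322))

theorem iv5 {G : Type*} [Group G] {φ : G →* Equiv.Perm ℕ} {ev : ℕ → G} (h : IsAct φ ev img 17442 12) :
    orb φ (gen ev Ws) 322 = Set.Ico 322 642 :=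
  ivl_sound h (by decide +kernel) (allR_range q5_0 (by norm_num : 322 + 320 = 642))

theorem iv6 {G : Type*} [Group G] {φ : G →* Equiv.Perm ℕ} {ev : ℕ → G} (h : IsAct φ ev img 17442 12) :
    orb φ (gen ev Ws) 642 = Set.Ico 642 1122 :=
  ivl_sound h (by decide +kernel) (allR_range q6_0 (by norm_num : 642 + 480 = 1122))

theorem iv7 {G : Type*} [Group G] {φ : G →* Equiv.Perm ℕ} {ev : ℕ → G} (h : IsAct φ ev img 17442 12) :
    orb φ (gen ev Ws) 1122 = Set.Ico 1122 1602 :=
  ivl_sound h (by decide +kernel) (allR_range q7_0 (by norm_num : 1122 + 480 = 1602))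

theorem iv8 {G : Type*} [Group G] {φ : G →* Equiv.Perm ℕ} {ev : ℕ → G} (h : IsAct φ ev img 17442 12) :
    orb φ (gen ev Ws) 1602 = Set.Ico 1602 2562 :=
  ivl_sound h (by decide +kernel) (allR_range q8_0 (by norm_num : 1602 + 960 = 2562))

theorem iv9 {G : Type*} [Group G] {φ : G →* Equiv.Perm ℕ} {ev : ℕ → G} (h : IsAct φ ev img 17442 12) :
    orb φ (gen ev Ws) 2562 = Set.Ico 2562 3522 :=
  ivl_sound h (by decide +kernel) (allR_range q9_0 (by norm_num : 2562 + 960 = 3522))

theorem iv10 {G : Type*} [Group G] {φ : G →* Equiv.Perm ℕ} {ev : ℕ → G} (h : IsAct φ ev img 17442 12) :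
    orb φ (gen ev Ws) 3522 = Set.Ico 3522 4482 :=
  ivl_sound h (by decide +kernel) (allR_range q10_0 (by norm_num : 3522 + 960 = 4482))

theorem iv11 {G : Type*} [Group G] {φ : G →* Equiv.Perm ℕ} {ev : ℕ → G} (h : IsAct φ ev img 17442 12) :
    orb φ (gen ev Ws) 4482 = Set.Ico 4482 5442 :=
  ivl_sound h (by decide +kernel) (allR_range q11_0 (by norm_num : 4482 + 960 = 5442))

theorem iv12 {G : Type*} [Group G] {φ : G →* Equiv.Perm ℕ} {ev : ℕ → G} (h : IsAct φ ev img 17442 12) :
    orb φ (gen ev Ws) 5442 = Set.Ico 5442 6402 :=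
  ivl_sound h (by decide +kernel) (allR_range q12_0 (by norm_num : 5442 + 960 = 6402))

theorem iv13 {G : Type*} [Group G] {φ : G →* Equiv.Perm ℕ} {ev : ℕ → G} (h : IsAct φ ev img 17442 12) :
    orb φ (gen ev Ws) 6402 = Set.Ico 6402 7362 :=
  ivl_sound h (by decide +kernel) (allR_range q13_0 (by norm_num : 6402 + 960 = 7362))

theorem iv14 {G : Type*} [Group G] {φ : G →* Equiv.Perm ℕ} {ev : ℕ → G} (h : IsAct φ ev img 17442 12) :
    orb φ (gen ev Ws) 7362 = Set.Ico 7362 8802 :=
  ivl_sound h (by decide +kernel) (allR_range q14_0 (by norm_num : 7362 + 1440 = 8802))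

theorem iv15 {G : Type*} [Group G] {φ : G →* Equiv.Perm ℕ} {ev : ℕ → G} (h : IsAct φ ev img 17442 12) :
    orb φ (gen ev Ws) 8802 = Set.Ico 8802 11682 :=
  ivl_sound h (by decide +kernel) (allR_range q15_0 (by norm_num : 8802 + 2880 = 11682))

theorem iv16 {G : Type*} [Group G] {φ : G →* Equiv.Perm ℕ} {ev : ℕ → G} (h : IsAct φ ev img 17442 12) :
    orb φ (gen ev Ws) 11682 = Set.Ico 11682 14562 :=
  ivl_sound h (by decide +kernel) (allR_range q16_0 (by norm_num : 11682 + 2880 = 14562))

theorem iv17 {G : Type*} [Group G] {φ : G →* Equiv.Perm ℕ} {ev : ℕ → G} (h : IsAct φ ev img 17442 12) :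
    orb φ (gen ev Ws) 14562 = Set.Ico 14562 17442 :=
  ivl_sound h (by decide +kernel) (allR_range q17_0 (by norm_num : 14562 + 2880 = 17442))


end Cfsg.H6.J3
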